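import Groth.Agent.Lib.Hens.IndEtale
import Groth.Agent.Lib.Hens.Local

/-!
# Descending algebra maps along the colimit defining a henselization
-/

set_option autoImplicit false
set_option linter.style.haveILetI false

universe u v w

open CategoryTheory TensorProduct Polynomial

namespace AzSplit29

open Groth.Agent.Hens

private theorem exists_preimage_aux {A : Type u} [CommRing A] {K F : Type (max u v)} {N : Type v} {B' : Type u}
    [AddCommGroup K] [Module A K] [AddCommGroup F] [Module A F] [AddCommGroup N] [Module A N] [AddCommGroup B']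
    [Module A B'] (i : K →ₗ[A] F) (p : F →ₗ[A] N) (he : Function.Exact i p) (hp : Function.Surjective p)
    (x : B' ⊗[A] F) (hx : p.lTensor B' x = 0) : ∃ w, i.lTensor B' w = x :=
  ((lTensor_exact B' he hp) x).1 hx

/-- A tensor killed in a filtered colimit is killed at a stage. -/
theorem exists_rTensor_eq_zero {A : Type u} [CommRing A] {N : Type v} [AddCommGroup N] [Module A N]
    {B B' : Type u} [AddCommGroup B] [Module A B] [AddCommGroup B'] [Module A B']
    {κ : Type w} {Bk : κ → Type u} [∀ k, AddCommGroup (Bk k)] [∀ k, Module A (Bk k)]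
    (ρ : ∀ k, B →ₗ[A] Bk k) (πk : ∀ k, Bk k →ₗ[A] B') (π : B →ₗ[A] B') (hρ : ∀ k, πk k ∘ₗ ρ k = π)
    (hsurj : ∀ T : Finset B', ∃ k, ∀ b ∈ T, b ∈ LinearMap.range (πk k))
    (hinj : ∀ k (T : Finset (Bk k)), (∀ x ∈ T, πk k x = 0) →
      ∃ (k' : κ) (σ : Bk k →ₗ[A] Bk k'), σ ∘ₗ ρ k = ρ k' ∧ ∀ x ∈ T, σ x = 0)
    (z : B ⊗[A] N) (hz : π.rTensor N z = 0) : ∃ k, (ρ k).rTensor N z = 0 := by
  classical
  let p : (N →₀ A) →ₗ[A] N := Finsupp.linearCombination A id
  have hp : Function.Surjective p := fun n => ⟨Finsupp.single n 1, by simp [p]⟩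
  obtain ⟨z0, rfl⟩ := LinearMap.lTensor_surjective B hp z
  have he : Function.Exact (LinearMap.ker p).subtype p := p.exact_subtype_ker_map
  have hz' : p.lTensor B' (π.rTensor _ z0) = 0 := by
    rw [← LinearMap.comp_apply, LinearMap.lTensor_comp_rTensor, ← LinearMap.rTensor_comp_lTensor]
    exact hz
  obtain ⟨w, hw⟩ := exists_preimage_aux (K := ↥(LinearMap.ker p)) (F := N →₀ A) (LinearMap.ker p).subtype p he hp _ hz'
  obtain ⟨S, rfl⟩ := TensorProduct.exists_finset w
  obtain ⟨k, hk⟩ := hsurj (S.image Prod.fst)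
  have hk' : ∀ i : S, ∃ b, πk k b = i.1.1 := fun i => hk _ (Finset.mem_image_of_mem _ i.2)
  choose b hb using hk'
  let wk : Bk k ⊗[A] LinearMap.ker p := ∑ i : S, b i ⊗ₜ i.1.2
  let d := (ρ k).rTensor (N →₀ A) z0 - (LinearMap.ker p).subtype.lTensor (Bk k) wk
  have hd : (πk k).rTensor _ d = 0 := by
    rw [map_sub, ← LinearMap.rTensor_comp_apply, hρ, ← LinearMap.comp_apply ((πk k).rTensor _),
      LinearMap.rTensor_comp_lTensor, ← LinearMap.lTensor_comp_rTensor, LinearMap.comp_apply, sub_eq_zero,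
      ← hw]
    congr 1
    simp [wk, hb]
    exact (Finset.sum_attach S (fun i => i.1 ⊗ₜ[A] i.2)).symm
  have hnat : ∀ {C C' : Type u} [AddCommGroup C] [Module A C] [AddCommGroup C'] [Module A C']
      (f : C →ₗ[A] C') (x : C ⊗[A] (N →₀ A)) (n : N),
      TensorProduct.finsuppScalarRight A A C' N (f.rTensor _ x) n =
        f (TensorProduct.finsuppScalarRight A A C N x n) := by
    intro C C' _ _ _ _ f x n
    induction x using TensorProduct.induction_on with
    | zero => simp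
    | tmul c a => simp
    | add x y hx hy => simp [hx, hy]
  let e := TensorProduct.finsuppScalarRight A A (Bk k) N d
  obtain ⟨k', σ, hσ, hσT⟩ := hinj k (e.support.image fun n => e n) (by
    intro x hx
    obtain ⟨n, -, rfl⟩ := Finset.mem_image.1 hx
    rw [← hnat, hd]
    simp)
  refine ⟨k', ?_⟩
  have hσd : σ.rTensor _ d = 0 := by
    refine (TensorProduct.finsuppScalarRight A A (Bk k') N).injective (Finsupp.ext fun n => ?_)
    rw [hnat, map_zero, Finsupp.coe_zero, Pi.zero_apply]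
    by_cases hn : n ∈ e.support
    · exact hσT _ (Finset.mem_image_of_mem _ hn)
    · rw [Finsupp.notMem_support_iff.1 hn, map_zero]
  rw [← hσ, LinearMap.rTensor_comp_apply, ← LinearMap.comp_apply ((ρ k).rTensor N),
    LinearMap.rTensor_comp_lTensor, ← LinearMap.lTensor_comp_rTensor, LinearMap.comp_apply,
    show (ρ k).rTensor (N →₀ A) z0 = d + (LinearMap.ker p).subtype.lTensor (Bk k) wk from (sub_add_cancel _ _).symm]
  have hp0 : ∀ y, p.lTensor (Bk k) ((LinearMap.ker p).subtype.lTensor (Bk k) y) = 0 := fun y => by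
    rw [← LinearMap.lTensor_comp_apply, LinearMap.comp_ker_subtype, LinearMap.lTensor_zero, LinearMap.zero_apply]
  rw [map_add, hp0, add_zero, ← LinearMap.comp_apply, LinearMap.rTensor_comp_lTensor,
    ← LinearMap.lTensor_comp_rTensor, LinearMap.comp_apply, hσd, map_zero]

variable {S : Type u} [CommRing S] {K : Type u} [Field K] [Algebra S K]

theorem exists_stage_finset (s : Finset (Hs S K)) :
    ∃ k : EtNbhd S K, ∀ b ∈ s, b ∈ Set.range k.toHs := by
  classical
  induction s using Finset.induction with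
  | empty => exact ⟨Classical.arbitrary _, by simp⟩
  | insert a s _ ih =>
    obtain ⟨i, hi⟩ := ih
    obtain ⟨j, y, hy⟩ := EtNbhd.exists_toHs a
    obtain ⟨k, ⟨f⟩, ⟨g⟩⟩ := EtNbhd.exists_hom₂ i j
    refine ⟨k, fun b hb => ?_⟩
    rcases Finset.mem_insert.mp hb with rfl | hb
    · exact ⟨g.1 y, by rw [EtNbhd.toHs_hom, hy]⟩
    · obtain ⟨z, rfl⟩ := hi b hb
      exact ⟨f.1 z, EtNbhd.toHs_hom f z⟩

theorem exists_kill_finset (k : EtNbhd S K) (T : Finset k.toNbhd.S) (hT : ∀ x ∈ T, k.toHs x = 0) :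
    ∃ (l : EtNbhd S K) (f : k ⟶ l), ∀ x ∈ T, f.1 x = 0 := by
  classical
  induction T using Finset.induction with
  | empty => exact ⟨k, 𝟙 k, by simp⟩
  | insert a s _ ih =>
    obtain ⟨l, f, hf⟩ := ih fun x hx => hT x (Finset.mem_insert_of_mem hx)
    obtain ⟨m, g, hg⟩ := EtNbhd.exists_hom_eq (m := l) (a := f.1 a) (b := 0)
      (by rw [EtNbhd.toHs_hom, hT a (Finset.mem_insert_self a s), map_zero])
    refine ⟨m, f ≫ g, fun x hx => ?_⟩
    change g.1 (f.1 x) = 0
    rcases Finset.mem_insert.mp hx with rfl | hx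
    · rw [hg, map_zero]
    · rw [hf x hx, map_zero]

theorem exists_kill {N : Type v} [AddCommGroup N] [Module S N] (k : EtNbhd S K) (z : k.toNbhd.S ⊗[S] N)
    (hz : k.toHs.toLinearMap.rTensor N z = 0) :
    ∃ (l : EtNbhd S K) (f : k ⟶ l), f.1.toLinearMap.rTensor N z = 0 := by
  obtain ⟨⟨l, f⟩, hl⟩ := exists_rTensor_eq_zero (κ := Σ l : EtNbhd S K, (k ⟶ l))
    (Bk := fun l => l.1.toNbhd.S) (fun l => l.2.1.toLinearMap) (fun l => l.1.toHs.toLinearMap) k.toHs.toLinearMap
    (fun l => LinearMap.ext fun x => EtNbhd.toHs_hom l.2 x)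
    (fun T => by
      obtain ⟨j, hj⟩ := exists_stage_finset T
      obtain ⟨l, ⟨f⟩, ⟨g⟩⟩ := EtNbhd.exists_hom₂ k j
      refine ⟨⟨l, f⟩, fun b hb => ?_⟩
      obtain ⟨y, rfl⟩ := hj b hb
      exact ⟨g.1 y, EtNbhd.toHs_hom g y⟩)
    (fun l T hT => by
      obtain ⟨m, g, hg⟩ := exists_kill_finset l.1 T hT
      exact ⟨⟨m, l.2 ≫ g⟩, g.1.toLinearMap, rfl, hg⟩)
    z hz
  exact ⟨l, f, hl⟩

section Descend

variable {R : Type v} [CommRing R] [Algebra S R]

/-- transition -/
noncomputable abbrev bcMap {i j : EtNbhd S K} (f : i ⟶ j) : R ⊗[S] i.toNbhd.S →ₐ[R] R ⊗[S] j.toNbhd.S :=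
  Algebra.TensorProduct.map (AlgHom.id R R) f.1

/-- to the colimit -/
noncomputable abbrev bcHs (i : EtNbhd S K) : R ⊗[S] i.toNbhd.S →ₐ[R] R ⊗[S] Hs S K :=
  Algebra.TensorProduct.map (AlgHom.id R R) i.toHs

theorem bcHs_bcMap {i j : EtNbhd S K} (f : i ⟶ j) (x : R ⊗[S] i.toNbhd.S) : bcHs j (bcMap f x) = bcHs i x := by
  induction x using TensorProduct.induction_on with
  | zero => simp
  | tmul r y => simp [EtNbhd.toHs_hom]
  | add x y hx hy => simp only [map_add, hx, hy]

theorem bcMap_comp {i j l : EtNbhd S K} (f : i ⟶ j) (g : j ⟶ l) (x : R ⊗[S] i.toNbhd.S) :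
    bcMap (f ≫ g) x = bcMap g (bcMap f x) := by
  induction x using TensorProduct.induction_on with
  | zero => simp
  | tmul r y => rfl
  | add x y hx hy => simp only [map_add, hx, hy]

theorem exists_stage (z : R ⊗[S] Hs S K) : ∃ (i : EtNbhd S K) (x : R ⊗[S] i.toNbhd.S), bcHs i x = z := by
  induction z using TensorProduct.induction_on with
  | zero => exact ⟨Classical.arbitrary _, 0, map_zero _⟩
  | tmul r h =>
    obtain ⟨i, y, rfl⟩ := EtNbhd.exists_toHs h
    exact ⟨i, r ⊗ₜ y, rfl⟩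
  | add a b ha hb =>
    obtain ⟨i, x, rfl⟩ := ha
    obtain ⟨j, y, rfl⟩ := hb
    obtain ⟨l, ⟨f⟩, ⟨g⟩⟩ := EtNbhd.exists_hom₂ i j
    exact ⟨l, bcMap f x + bcMap g y, by rw [map_add, bcHs_bcMap, bcHs_bcMap]⟩

theorem exists_stage_fin {m : ℕ} (z : Fin m → R ⊗[S] Hs S K) :
    ∃ (i : EtNbhd S K) (x : Fin m → R ⊗[S] i.toNbhd.S), ∀ a, bcHs i (x a) = z a := by
  induction m with
  | zero => exact ⟨Classical.arbitrary _, Fin.elim0, fun a => a.elim0⟩
  | succ m ih =>
    obtain ⟨i, x, hx⟩ := ih (fun a => z a.succ)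
    obtain ⟨j, y, hy⟩ := exists_stage (z 0)
    obtain ⟨l, ⟨f⟩, ⟨g⟩⟩ := EtNbhd.exists_hom₂ i j
    refine ⟨l, Fin.cons (bcMap g y) fun a => bcMap f (x a), fun a => ?_⟩
    induction a using Fin.cases with
    | zero => rw [Fin.cons_zero, bcHs_bcMap, hy]
    | succ a => rw [Fin.cons_succ, bcHs_bcMap, hx]

theorem exists_bcMap_eq_zero (i : EtNbhd S K) (x : R ⊗[S] i.toNbhd.S) (hx : bcHs i x = 0) :
    ∃ (l : EtNbhd S K) (f : i ⟶ l), bcMap f x = 0 := by
  have hcomm : ∀ {X Y : Type u} [CommRing X] [CommRing Y] [Algebra S X] [Algebra S Y] (φ : X →ₐ[S] Y) (y : R ⊗[S] X),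
      TensorProduct.comm S R Y (Algebra.TensorProduct.map (AlgHom.id R R) φ y) =
        φ.toLinearMap.rTensor R (TensorProduct.comm S R X y) := by
    intro X Y _ _ _ _ φ y
    induction y using TensorProduct.induction_on with
    | zero => simp
    | tmul r y => simp
    | add a b ha hb => simp only [map_add, ha, hb]
  obtain ⟨l, f, hf⟩ := exists_kill i (TensorProduct.comm S R i.toNbhd.S x) (by rw [← hcomm, hx, map_zero])
  refine ⟨l, f, (TensorProduct.comm S R l.toNbhd.S).injective ?_⟩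
  rw [hcomm, hf, map_zero]

/-- a map from a finitely presented algebra into `R ⊗ Hs` comes from a stage -/
theorem exists_descend (E : Type v) [CommRing E] [Algebra R E] [Algebra.FinitePresentation R E]
    (φ : E →ₐ[R] R ⊗[S] Hs S K) : ∃ i : EtNbhd S K, Nonempty (E →ₐ[R] R ⊗[S] i.toNbhd.S) := by
  classical
  obtain ⟨m, g, hg, hker⟩ := Algebra.FinitePresentation.out (R := R) (A := E)
  obtain ⟨i, x, hx⟩ := exists_stage_fin fun a => φ (g (MvPolynomial.X a))
  obtain ⟨s, hs⟩ := hker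
  suffices h : ∀ t : Finset (MvPolynomial (Fin m) R), (∀ q ∈ t, g q = 0) →
      ∃ (l : EtNbhd S K) (f : i ⟶ l), ∀ q ∈ t, bcMap f (MvPolynomial.aeval x q) = 0 by
    obtain ⟨l, f, hf⟩ := h s fun q hq => by
      have h1 : q ∈ Ideal.span (s : Set (MvPolynomial (Fin m) R)) := Ideal.subset_span hq
      rw [hs] at h1
      exact h1
    refine ⟨l, ⟨(Ideal.Quotient.liftₐ (RingHom.ker g) ((bcMap f).comp (MvPolynomial.aeval x)) ?_).comp
      (Ideal.quotientKerAlgEquivOfSurjective hg).symm.toAlgHom⟩⟩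
    intro q hq
    have hle : RingHom.ker g ≤ RingHom.ker ((bcMap f).comp (MvPolynomial.aeval x)) := by
      refine hs ▸ Ideal.span_le.2 fun q hq => ?_
      exact RingHom.mem_ker.2 (hf q hq)
    exact RingHom.mem_ker.1 (hle hq)
  intro t ht
  have hev : ∀ q, bcHs i (MvPolynomial.aeval x q) = φ (g q) := fun q => by
    rw [← AlgHom.comp_apply (bcHs i), ← AlgHom.comp_apply φ, show (bcHs i).comp (MvPolynomial.aeval x) = φ.comp g from
      MvPolynomial.algHom_ext fun a => by simp only [AlgHom.comp_apply, MvPolynomial.aeval_X, hx]]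
  induction t using Finset.induction with
  | empty => exact ⟨i, 𝟙 i, by simp⟩
  | insert q t _ ih =>
    obtain ⟨l, f, hf⟩ := ih fun q' hq' => ht q' (Finset.mem_insert_of_mem hq')
    obtain ⟨m', f', hf'⟩ := exists_bcMap_eq_zero l (bcMap f (MvPolynomial.aeval x q))
      (by rw [bcHs_bcMap, hev, ht q (Finset.mem_insert_self q t), map_zero])
    refine ⟨m', f ≫ f', fun q' hq' => ?_⟩
    rw [bcMap_comp]
    rcases Finset.mem_insert.mp hq' with rfl | hq'
    · exact hf'
    · rw [hf q' hq', map_zero]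

end Descend

theorem isSepClosed_residueField [IsSepClosed K] : IsSepClosed (IsLocalRing.ResidueField (Hs S K)) := by
  refine IsSepClosed.of_exists_root _ fun p hm hp hs => ?_
  let ι : IsLocalRing.ResidueField (Hs S K) →+* K :=
    Ideal.Quotient.lift _ (Hs.res (R := S) (K := K)).toRingHom fun x hx => (Hs.res_eq_zero_iff x).2 hx
  have hι : ι.comp (IsLocalRing.residue _) = (Hs.res (R := S) (K := K)).toRingHom := rfl
  obtain ⟨f, hf, -, hfm⟩ := lifts_and_degree_eq_and_monic
    ((lifts_iff_coeff_lifts p).2 fun n => IsLocalRing.residue_surjective (p.coeff n)) hm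
  have hmap : f.map (Hs.res (R := S) (K := K)).toRingHom = p.map ι := by rw [← hι, ← Polynomial.map_map, hf]
  obtain ⟨b, hb⟩ := IsSepClosed.exists_root (p.map ι)
    (by rw [Polynomial.degree_map]; exact (Polynomial.degree_pos_of_irreducible hp).ne') hs.map
  obtain ⟨a, ha, -⟩ := Hs.exists_root f hfm b (by rw [hmap]; exact hb) (by
    rw [hmap]
    exact hs.map.eval₂_derivative_ne_zero (RingHom.id K) (by rwa [eval₂_id]))
  refine ⟨IsLocalRing.residue _ a, ?_⟩
  rw [← hf, eval_map, eval₂_at_apply, show f.eval a = 0 from ha, map_zero]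

/-- a point of a faithfully flat étale algebra over a strictly henselian local ring -/
theorem exists_point {R : Type v} [CommRing R] (E : Type v) [CommRing E] [Algebra R E] [Algebra.Etale R E]
    [Module.FaithfullyFlat R E] (T : Type w) [CommRing T] [HenselianLocalRing T]
    [IsSepClosed (IsLocalRing.ResidueField T)] [Algebra R T] : Nonempty (E →ₐ[R] T) := by
  let k := IsLocalRing.ResidueField T
  haveI : Nontrivial (k ⊗[R] E) := inferInstance
  obtain ⟨M, hM⟩ := Ideal.exists_maximal (k ⊗[R] E)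
  letI : Field ((k ⊗[R] E) ⧸ M) := Ideal.Quotient.field M
  haveI : Algebra.EssFiniteType k ((k ⊗[R] E) ⧸ M) := inferInstance
  haveI : Algebra.FormallyUnramified k ((k ⊗[R] E) ⧸ M) := inferInstance
  haveI : Algebra.IsSeparable k ((k ⊗[R] E) ⧸ M) := Algebra.FormallyUnramified.isSeparable k _
  let e := AlgEquiv.ofBijective (Algebra.ofId k ((k ⊗[R] E) ⧸ M))
    ⟨RingHom.injective _, IsSepClosed.algebraMap_surjective k _⟩
  let σ : E →ₐ[R] k := (e.symm.toAlgHom.restrictScalars R).comp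
    (((Ideal.Quotient.mkₐ k M).restrictScalars R).comp Algebra.TensorProduct.includeRight)
  obtain ⟨τ, -, -⟩ := existsUnique_algHom_lift (J := IsLocalRing.maximalIdeal T) inferInstance σ
  exact ⟨τ⟩

end AzSplit29
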