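import Groth.Agent.Lib.AzSplit29.Colim
import Groth.Agent.Lib.RInv29.Henselian
import Groth.Agent.Lib.AzType29.Sign

/-!
# Splitting of an Azumaya algebra over an étale cover of the fixed ring
-/

set_option autoImplicit false
set_option linter.style.haveILetI false

universe u v w

open TensorProduct

namespace AzSplit29

open Groth.Agent.Hens

variable {S : Type u} {R : Type v} [CommRing S] [CommRing R] [Algebra S R]

theorem exists_hom_at (lam : R ≃ₐ[S] R) (hl : Function.Involutive lam) (hfix : RInv.IsFixedRing S R lam.toRingEquiv)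
    (E : Type v) [CommRing E] [Algebra R E] [Algebra.Etale R E] [Module.FaithfullyFlat R E]
    (p : PrimeSpectrum S) :
    ∃ (S' : Type u) (_ : CommRing S') (_ : Algebra S S') (_ : Algebra.Etale S S'),
      p ∈ Set.range (PrimeSpectrum.comap (algebraMap S S')) ∧ Nonempty (E →ₐ[R] R ⊗[S] S') := by
  classical
  let K := SeparableClosure p.asIdeal.ResidueField
  let T0 := Hs S K
  haveI : IsSepClosed (IsLocalRing.ResidueField T0) := isSepClosed_residueField
  let lamT := (Algebra.TensorProduct.congr (AlgEquiv.refl : T0 ≃ₐ[S] T0) lam).toRingEquiv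
  have hT : RInv.IsFixedRing T0 (T0 ⊗[S] R) lamT :=
    RInv29.isFixedRing_baseChange T0 lam hl hfix (Or.inl inferInstance)
  have hlT : Function.Involutive lamT := fun x => by
    change Algebra.TensorProduct.congr (AlgEquiv.refl : T0 ≃ₐ[S] T0) lam (Algebra.TensorProduct.congr (AlgEquiv.refl : T0 ≃ₐ[S] T0) lam x) = x
    induction x using TensorProduct.induction_on with
    | zero => simp
    | tmul t r => simp [hl r]
    | add a b ha hb => simp only [map_add, ha, hb]
  obtain ⟨ι, _, T, _, _, hsc, ⟨e0⟩⟩ := RInv29.exists_pi_henselian hlT hT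
  let e : R ⊗[S] T0 ≃+* (∀ i, T i) := (Algebra.TensorProduct.comm S R T0).toRingEquiv.trans e0
  letI : ∀ i, Algebra R (T i) := fun i =>
    (((Pi.evalRingHom T i).comp e.toRingHom).comp (algebraMap R (R ⊗[S] T0))).toAlgebra
  haveI := hsc
  have hne : ∀ i, Nonempty (E →ₐ[R] T i) := fun i => exists_point E (T i)
  let τ : ∀ i, E →ₐ[R] T i := fun i => (hne i).some
  let φ : E →ₐ[R] R ⊗[S] T0 :=
    { e.symm.toRingHom.comp (Pi.ringHom fun i => (τ i).toRingHom) with
      commutes' := fun r => by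
        change e.symm (fun i => τ i (algebraMap R E r)) = algebraMap R (R ⊗[S] T0) r
        rw [RingEquiv.symm_apply_eq]
        funext i
        exact (τ i).commutes r }
  obtain ⟨i, hi⟩ := exists_descend E φ
  refine ⟨i.toNbhd.S, inferInstance, inferInstance, inferInstance, ⟨⟨RingHom.ker i.toNbhd.σ, RingHom.ker_isPrime _⟩, ?_⟩, hi⟩
  ext s
  change i.toNbhd.σ (algebraMap S _ s) = 0 ↔ _
  rw [AlgHom.commutes, IsScalarTower.algebraMap_apply S p.asIdeal.ResidueField K,
    map_eq_zero, Ideal.algebraMap_residueField_eq_zero]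

theorem exists_cover_hom (lam : R ≃ₐ[S] R) (hl : Function.Involutive lam) (hfix : RInv.IsFixedRing S R lam.toRingEquiv)
    (E : Type v) [CommRing E] [Algebra R E] [Algebra.Etale R E] [Module.FaithfullyFlat R E] :
    ∃ (S' : Type u) (_ : CommRing S') (_ : Algebra S S') (_ : Algebra.Etale S S')
      (_ : Module.FaithfullyFlat S S'), Nonempty (E →ₐ[R] R ⊗[S] S') := by
  classical
  choose S' i1 i2 i3 hmem hφ using exists_hom_at lam hl hfix E
  have hopen : ∀ p, IsOpen (Set.range (PrimeSpectrum.comap (algebraMap S (S' p)))) := fun p =>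
    (PrimeSpectrum.isOpenMap_comap_of_hasGoingDown_of_finitePresentation (R := S) (S := S' p)).isOpen_range
  obtain ⟨t, ht⟩ := isCompact_univ.elim_finite_subcover _ hopen fun p _ => Set.mem_iUnion.2 ⟨p, hmem p⟩
  haveI : Module.Flat S (∀ l : t, S' l) := Module.Flat.of_linearEquiv
    (DFinsupp.linearEquivFunOnFintype (R := S) (M := fun l : t => S' l)).symm
  haveI : Module.FaithfullyFlat S (∀ l : t, S' l) := Module.FaithfullyFlat.of_comap_surjective fun q => by
    obtain ⟨p, hp⟩ := Set.mem_iUnion.1 (ht (Set.mem_univ q))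
    obtain ⟨hpt, q', hq'⟩ := Set.mem_iUnion.1 hp
    refine ⟨PrimeSpectrum.comap (Pi.evalRingHom (fun l : t => S' l) ⟨p, hpt⟩) q', ?_⟩
    rw [← hq', ← PrimeSpectrum.comap_comp_apply]
    rfl
  refine ⟨∀ l : t, S' l, inferInstance, inferInstance, inferInstance, inferInstance,
    ⟨(Algebra.TensorProduct.piRight S R R fun l : t => S' l).symm.toAlgHom.comp
      (AlgHom.pi fun l => (hφ l).some)⟩⟩

theorem exists_split (lam : R ≃ₐ[S] R) (hl : Function.Involutive lam) (hfix : RInv.IsFixedRing S R lam.toRingEquiv)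
    (A : Type w) [Ring A] [Algebra S A] [Algebra R A] [IsScalarTower S R A] (n : ℕ)
    (hA : AzInv.IsAzumayaDeg R A n) :
    ∃ (S' : Type u) (_ : CommRing S') (_ : Algebra S S') (_ : Algebra.Etale S S')
      (_ : Module.FaithfullyFlat S S') (f : S' ⊗[S] A ≃ₐ[S'] Matrix (Fin n) (Fin n) (S' ⊗[S] R)),
      ∀ (r : R) (x : S' ⊗[S] A),
        f (((1 : S') ⊗ₜ[S] algebraMap R A r) * x) = Matrix.scalar (Fin n) ((1 : S') ⊗ₜ[S] r) * f x := by
  haveI := hA.1
  obtain ⟨E, _, _, hE1, hE2, F, hF⟩ := AzType29.exists_etale_split' hA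
  obtain ⟨S', _, _, h1, h2, ⟨j⟩⟩ := exists_cover_hom lam hl hfix E
  let G := Groth.Agent.Brauer25.SplitMap.push j F
  have hG := Groth.Agent.Brauer25.SplitMap.isSplitting_push j hF
  have hbij := Groth.Agent.Brauer25.SplitMap.ext_bijective hA.2 hG
  let c : R ⊗[S] S' ≃ₐ[S] S' ⊗[S] R := Algebra.TensorProduct.comm S R S'
  let G' : A →ₐ[S] Matrix (Fin n) (Fin n) (S' ⊗[S] R) := c.toAlgHom.mapMatrix.comp (G.restrictScalars S)
  let Ψ : S' ⊗[S] A →ₐ[S'] Matrix (Fin n) (Fin n) (S' ⊗[S] R) :=
    Algebra.TensorProduct.lift (Algebra.ofId S' _) G' fun x y => Algebra.commutes x (G' y)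
  have hΨt : ∀ (s : S') (a : A), Ψ (s ⊗ₜ a) = s • (G a).map c := fun s a => by
    rw [Algebra.smul_def]
    exact Algebra.TensorProduct.lift_tmul _ _ _ s a
  let κ : S' ⊗[S] A → (R ⊗[S] S') ⊗[R] A := fun x => TensorProduct.comm R A (R ⊗[S] S')
    ((TensorProduct.AlgebraTensorModule.cancelBaseChange S R R A S').symm (TensorProduct.comm S S' A x))
  have hκ : Function.Bijective κ :=
    ((TensorProduct.comm R A (R ⊗[S] S')).bijective.comp
      (TensorProduct.AlgebraTensorModule.cancelBaseChange S R R A S').symm.bijective).comp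
      (TensorProduct.comm S S' A).bijective
  have hκt : ∀ (s : S') (a : A), κ (s ⊗ₜ a) = ((1 : R) ⊗ₜ[S] s) ⊗ₜ[R] a := fun s a => by simp [κ]
  have hκadd : ∀ x y, κ (x + y) = κ x + κ y := fun x y => by simp [κ]
  have hΨ : ∀ x, Ψ x = (Groth.Agent.Brauer25.SplitMap.ext G (κ x)).map c := fun x => by
    induction x using TensorProduct.induction_on with
    | zero => simp [κ]
    | tmul s a =>
      rw [hκt, Groth.Agent.Brauer25.SplitMap.ext_tmul]
      rw [hΨt]
      ext i k
      simp only [Matrix.smul_apply, Matrix.map_apply, smul_eq_mul, map_mul]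
      rw [Algebra.smul_def]
      simp [c]
    | add a b ha hb => rw [map_add, ha, hb, hκadd, map_add, Matrix.map_add _ (map_add c)]
  have hΨb : Function.Bijective Ψ := by
    rw [show (⇑Ψ) = (fun M : Matrix (Fin n) (Fin n) (R ⊗[S] S') => M.map c) ∘ ⇑(Groth.Agent.Brauer25.SplitMap.ext G) ∘ κ from
      funext hΨ]
    exact (c.toEquiv.mapMatrix).bijective.comp (hbij.comp hκ)
  refine ⟨S', inferInstance, inferInstance, h1, h2, AlgEquiv.ofBijective Ψ hΨb, fun r x => ?_⟩
  rw [map_mul]
  congr 1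
  change Ψ ((1 : S') ⊗ₜ[S] algebraMap R A r) = _
  rw [hΨt, one_smul, AlgHom.commutes]
  ext i k
  by_cases hik : i = k
  · subst hik
    simp [c, Matrix.algebraMap_matrix_apply, Algebra.TensorProduct.algebraMap_apply]
  · simp [c, Matrix.algebraMap_matrix_apply, hik]

end AzSplit29
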